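import Cfsg.Agent.Lib.SpectrumThree.Field

/-!
The element orders of `PSL₃(q)`.
-/

set_option autoImplicit false

namespace CfsgLib.SpectrumThree

open Polynomial Matrix

variable {F : Type*} [Field F] [Fintype F]

theorem exists_card_pow (p : ℕ) [Fact p.Prime] [CharP F p] : ∃ a, 0 < a ∧ Fintype.card F = p ^ a := by
  obtain ⟨a, -, ha⟩ := FiniteField.card F p
  exact ⟨a, a.pos, ha⟩

theorem mk_psl_eq_one_iff (g : Matrix.SpecialLinearGroup (Fin 3) F) :
    (QuotientGroup.mk g : Matrix.ProjectiveSpecialLinearGroup (Fin 3) F) = 1 ↔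
      ∃ c : F, g.1 = Matrix.scalar (Fin 3) c := by
  rw [QuotientGroup.eq_one_iff, Matrix.SpecialLinearGroup.mem_center_iff]
  constructor
  · rintro ⟨c, -, hc⟩; exact ⟨c, hc.symm⟩
  · rintro ⟨c, hc⟩
    refine ⟨c, ?_, hc.symm⟩
    have h := g.2
    rw [hc, Matrix.scalar_apply, Matrix.det_diagonal] at h
    simpa using h

theorem psl_scalar_pow_gcd {g : Matrix.SpecialLinearGroup (Fin 3) F} {k : ℕ} {c : F}
    (hc : g.1 ^ k = Matrix.scalar (Fin 3) c) : c ^ Nat.gcd 3 (Fintype.card F - 1) = 1 := by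
  have h := congrArg Matrix.det hc
  rw [Matrix.det_pow, g.2, one_pow, Matrix.scalar_apply, Matrix.det_diagonal] at h
  have h3 : c ^ 3 = 1 := by simpa using h.symm
  have hc0 : c ≠ 0 := fun h0 => by simp [h0] at h3
  exact pow_gcd_eq_one.mpr ⟨h3, FiniteField.pow_card_sub_one_eq_one c hc0⟩

theorem dvd_orderOf_psl (g : Matrix.SpecialLinearGroup (Fin 3) F) {N : ℕ}
    (h : ∀ (k : ℕ) (c : F), g.1 ^ k = Matrix.scalar (Fin 3) c → c ^ Nat.gcd 3 (Fintype.card F - 1) = 1 → N ∣ k) :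
    N ∣ orderOf (QuotientGroup.mk g : Matrix.ProjectiveSpecialLinearGroup (Fin 3) F) := by
  set k := orderOf (QuotientGroup.mk g : Matrix.ProjectiveSpecialLinearGroup (Fin 3) F)
  have h1 : (QuotientGroup.mk (g ^ k) : Matrix.ProjectiveSpecialLinearGroup (Fin 3) F) = 1 := by
    rw [QuotientGroup.mk_pow]; exact pow_orderOf_eq_one _
  obtain ⟨c, hc⟩ := (mk_psl_eq_one_iff _).mp h1
  rw [Matrix.SpecialLinearGroup.coe_pow] at hc
  exact h k c hc (psl_scalar_pow_gcd hc)

theorem arith_linear (q : ℕ) (hq : 2 ≤ q) :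
    Nat.gcd 3 (q - 1) ∣ q - 1 ∧ Nat.gcd 3 (q - 1) ∣ 3 ∧ Nat.gcd 3 (q - 1) ∣ q ^ 2 + q + 1 ∧
      Nat.gcd 3 (q - 1) ∣ q ^ 2 - 1 := by
  have h1 := Nat.gcd_dvd_right 3 (q - 1)
  have h3 := Nat.gcd_dvd_left 3 (q - 1)
  obtain ⟨r, rfl⟩ : ∃ r, q = r + 1 := ⟨q - 1, by omega⟩
  simp only [Nat.add_sub_cancel] at h1 h3 ⊢
  refine ⟨h1, h3, ?_, ?_⟩
  · rw [show (r + 1) ^ 2 + (r + 1) + 1 = r * (r + 3) + 3 by ring]
    exact dvd_add (h1.mul_right _) h3
  · rw [show (r + 1) ^ 2 - 1 = r * (r + 2) by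
      rw [show (r + 1) ^ 2 = r * (r + 2) + 1 by ring, Nat.add_sub_cancel]]
    exact h1.mul_right _

theorem psl_bound (p : ℕ) [Fact p.Prime] [CharP F p]
    (x : Matrix.ProjectiveSpecialLinearGroup (Fin 3) F) :
    ∃ N, (N = (Fintype.card F ^ 2 + Fintype.card F + 1) / Nat.gcd 3 (Fintype.card F - 1) ∨
      N = (Fintype.card F ^ 2 - 1) / Nat.gcd 3 (Fintype.card F - 1) ∨ N = Fintype.card F - 1 ∨
      N = p * (Fintype.card F - 1) / Nat.gcd 3 (Fintype.card F - 1) ∨ (p = 2 ∧ N = 4)) ∧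
      orderOf x ∣ N := by
  set q := Fintype.card F with hqdef
  have hq : 2 ≤ q := Fintype.one_lt_card
  obtain ⟨h1, h2, h3, h4⟩ := arith_linear q hq
  set d := Nat.gcd 3 (q - 1) with hd
  obtain ⟨g, rfl⟩ := QuotientGroup.mk_surjective x
  obtain ⟨a, -, ha⟩ := exists_card_pow (F := F) p
  let K := AlgebraicClosure F
  have : CharP K p := charP_of_injective_algebraMap (algebraMap F K).injective p
  have hclosed : ∀ y : K, y ≠ 0 → (g.1.map (algebraMap F K)).charpoly.IsRoot y →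
      (g.1.map (algebraMap F K)).charpoly.IsRoot (y ^ (q : ℤ)) := fun y _ hy => by
    rw [zpow_natCast, hqdef, ha, ← iterateFrobenius_def]
    have hfix : (g.1.map (algebraMap F K)).charpoly.map (iterateFrobenius K p a) =
        (g.1.map (algebraMap F K)).charpoly := by
      rw [Matrix.charpoly_map, Polynomial.map_map]
      congr 1
      refine RingHom.ext fun c => ?_
      rw [RingHom.comp_apply, iterateFrobenius_def, ← ha, ← map_pow, FiniteField.pow_card]
    rw [← hfix]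
    exact hy.map
  obtain ⟨N, hN, c, hc⟩ := scalar_exponent p g.1 g.2 q d (q - 1) ((q ^ 2 + q + 1) / d) ((q ^ 2 - 1) / d)
    (q : ℤ) ⟨a, ha⟩ (Or.inl rfl) (by omega) hclosed h1 h2
    (by exact_mod_cast Nat.mul_div_cancel' h3)
    (by
      rw [← Nat.cast_mul, Nat.mul_div_cancel' h4, Nat.cast_sub (Nat.one_le_pow _ _ (by omega))]
      push_cast; ring)
  refine ⟨N, ?_, orderOf_dvd_of_pow_eq_one ?_⟩
  · rcases hN with h | h | h | h | h
    · tauto
    · rw [← Nat.mul_div_assoc _ h1] at h; tauto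
    all_goals tauto
  · rw [← QuotientGroup.mk_pow]
    exact (mk_psl_eq_one_iff _).mpr ⟨c, by rw [Matrix.SpecialLinearGroup.coe_pow]; exact hc⟩

theorem exists_gen_units : ∃ a : Fˣ, orderOf (a : F) = Fintype.card F - 1 := by
  classical
  obtain ⟨a, ha⟩ := IsCyclic.exists_ofOrder_eq_natCard (α := Fˣ)
  exact ⟨a, by rw [orderOf_units, ha, Nat.card_units, Nat.card_eq_fintype_card]⟩

theorem exists_split : ∃ g : Matrix.ProjectiveSpecialLinearGroup (Fin 3) F, Fintype.card F - 1 ∣ orderOf g := by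
  obtain ⟨a, ha⟩ := exists_gen_units (F := F)
  refine ⟨QuotientGroup.mk ⟨Matrix.diagonal ![(a : F), 1, (a : F)⁻¹],
    by rw [Matrix.det_diagonal, Fin.prod_univ_three]; simp⟩, dvd_orderOf_psl _ fun k c hc _ => ?_⟩
  rw [Matrix.diagonal_pow, Matrix.scalar_apply] at hc
  have e := Matrix.diagonal_injective hc
  have e0 := congrFun e 0
  have e1 := congrFun e 1
  simp at e0 e1
  rw [← ha]
  exact orderOf_dvd_of_pow_eq_one (e0.trans e1.symm)

theorem exists_repeated (p : ℕ) [Fact p.Prime] [CharP F p] :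
    ∃ g : Matrix.ProjectiveSpecialLinearGroup (Fin 3) F,
      p * (Fintype.card F - 1) / Nat.gcd 3 (Fintype.card F - 1) ∣ orderOf g := by
  obtain ⟨a, ha⟩ := exists_gen_units (F := F)
  set b : F := ((a : F) * a)⁻¹ with hb
  let W : Matrix (Fin 3) (Fin 3) F := !![0, 1, 0; 0, 0, 0; 0, 0, 0]
  have hW : W * W = 0 := by ext i j; fin_cases i <;> fin_cases j <;> simp [W, Matrix.mul_apply, Fin.sum_univ_three]
  have hc : Commute (Matrix.diagonal ![(a : F), a, b]) W := by
    show _ = _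
    ext i j; fin_cases i <;> fin_cases j <;> simp [W, Matrix.mul_apply, Fin.sum_univ_three, Matrix.diagonal]
  have hdet : (Matrix.diagonal ![(a : F), a, b] * (1 + W)).det = 1 := by
    rw [Matrix.det_mul, Matrix.det_diagonal, Fin.prod_univ_three, Matrix.det_fin_three (1 + W)]
    simp [W, hb]
    field_simp
  refine ⟨QuotientGroup.mk ⟨_, hdet⟩, dvd_orderOf_psl _ fun k c hk hcd => ?_⟩
  rw [repeated_pow _ _ W hW hc] at hk
  have e0 := congrFun (congrFun hk 0) 0
  have e1 := congrFun (congrFun hk 0) 1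
  simp [W, Matrix.mul_apply, Fin.sum_univ_three, Matrix.diagonal] at e0 e1
  rw [Nat.mul_div_assoc _ (Nat.gcd_dvd_right _ _)]
  refine dvd_of_repeated p (a : F) (Nat.gcd_pos_of_pos_left _ (by norm_num)) (Nat.gcd_dvd_right _ _) ?_ ha
    (fun h => e1) a.ne_zero (by rw [e0]; exact hcd)
  intro h
  obtain ⟨n, hn, hcard⟩ := exists_card_pow (F := F) p
  have : p ∣ Fintype.card F := hcard ▸ dvd_pow_self p hn.ne'
  have h1 : p ∣ 1 := by
    have := Nat.dvd_sub this h
    rwa [Nat.sub_sub_self Fintype.card_pos] at this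
  exact (Fact.out : p.Prime).ne_one (Nat.dvd_one.mp h1)

theorem exists_four [CharP F 2] : ∃ g : Matrix.ProjectiveSpecialLinearGroup (Fin 3) F, 4 ∣ orderOf g := by
  refine ⟨QuotientGroup.mk ⟨!![1, 1, 0; 0, 1, 1; 0, 0, 1], by rw [Matrix.det_fin_three]; simp⟩,
    dvd_orderOf_psl _ fun k c hk _ => ?_⟩
  set A : Matrix (Fin 3) (Fin 3) F := !![1, 1, 0; 0, 1, 1; 0, 0, 1]
  have h2 : (2 : F) = 0 := CharTwo.two_eq_zero
  have h4 : A ^ 4 = 1 := by
    rw [show (4 : ℕ) = 2 * 2 by norm_num, pow_mul]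
    ext i j
    fin_cases i <;> fin_cases j <;> simp [A, pow_two, Matrix.mul_apply, Fin.sum_univ_three, CharTwo.add_self_eq_zero]
  rw [← Nat.div_add_mod k 4, pow_add, pow_mul, h4, one_pow, Matrix.one_mul] at hk
  have hk' : k % 4 < 4 := Nat.mod_lt _ (by norm_num)
  have e1 := congrFun (congrFun hk 0) 1
  have e2 := congrFun (congrFun hk 0) 2
  interval_cases hh : k % 4
  · exact Nat.dvd_of_mod_eq_zero hh
  · simp [A] at e1
  · simp [A, pow_two, Matrix.mul_apply, Fin.sum_univ_three] at e2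
  · exfalso
    simp [A, pow_succ, Matrix.mul_apply, Fin.sum_univ_three] at e1
    rw [one_add_one_eq_two, h2] at e1
    simp at e1

/-- A cyclic torus from an extension of degree three. -/
theorem exists_cubic (p : ℕ) [Fact p.Prime] [CharP F p] :
    ∃ g : Matrix.ProjectiveSpecialLinearGroup (Fin 3) F,
      (Fintype.card F ^ 2 + Fintype.card F + 1) / Nat.gcd 3 (Fintype.card F - 1) ∣ orderOf g := by
  classical
  let L := FiniteField.Extension F p 3
  have hcard : Nat.card L = Fintype.card F ^ 3 := by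
    rw [FiniteField.natCard_extension, Nat.card_eq_fintype_card]
  have hdim : Module.finrank F L = 3 := FiniteField.finrank_extension _ _ _
  set q := Fintype.card F with hqd
  have hq : 2 ≤ q := Fintype.one_lt_card
  obtain ⟨-, -, h3, -⟩ := arith_linear q hq
  obtain ⟨γ, hγ⟩ := IsCyclic.exists_ofOrder_eq_natCard (α := Lˣ)
  have hγo : orderOf γ = (q ^ 2 + q + 1) * (q - 1) := by
    rw [hγ, Nat.card_units, hcard]
    obtain ⟨r, hr⟩ : ∃ r, q = r + 1 := ⟨q - 1, by omega⟩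
    rw [hr, Nat.add_sub_cancel, show (r + 1) ^ 3 = ((r + 1) ^ 2 + (r + 1) + 1) * r + 1 by ring,
      Nat.add_sub_cancel]
  set θ : L := ((γ ^ (q - 1) : Lˣ) : L) with hθ
  have hθo : orderOf θ = q ^ 2 + q + 1 := by
    rw [hθ, orderOf_units, orderOf_pow_of_dvd (by omega) ⟨q ^ 2 + q + 1, by rw [hγo, mul_comm]⟩, hγo,
      Nat.mul_div_cancel _ (by omega)]
  let b : Module.Basis (Fin 3) F L := Module.finBasisOfFinrankEq F L hdim
  have hdet : (Algebra.leftMulMatrix b θ).det = 1 := by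
    rw [← Algebra.norm_eq_matrix_det]
    refine (algebraMap F L).injective ?_
    rw [map_one, FiniteField.algebraMap_norm_eq_pow_sum, hdim, Nat.card_eq_fintype_card, ← hqd,
      show ∑ i ∈ Finset.range 3, q ^ i = orderOf θ by
        rw [hθo, Finset.sum_range_succ, Finset.sum_range_succ, Finset.sum_range_one]; ring,
      pow_orderOf_eq_one]
  refine ⟨QuotientGroup.mk ⟨_, hdet⟩, dvd_orderOf_psl _ fun k c hk hcd => ?_⟩
  have h1 : θ ^ k = algebraMap F L c := by
    refine Algebra.leftMulMatrix_injective b ?_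
    rw [map_pow, AlgHom.commutes, hk, Matrix.algebraMap_eq_diagonal, Matrix.scalar_apply]
    rfl
  refine dvd_of_pow_mul_eq_one (x := θ) (d := Nat.gcd 3 (q - 1)) (Nat.gcd_pos_of_pos_left _ (by norm_num))
    (by rw [hθo, Nat.mul_div_cancel' h3]) ?_
  rw [pow_mul, h1, ← map_pow, hcd, map_one]

/-- A torus from an extension of degree two. -/
theorem exists_quadratic (p : ℕ) [Fact p.Prime] [CharP F p] :
    ∃ g : Matrix.ProjectiveSpecialLinearGroup (Fin 3) F,
      (Fintype.card F ^ 2 - 1) / Nat.gcd 3 (Fintype.card F - 1) ∣ orderOf g := by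
  classical
  let L := FiniteField.Extension F p 2
  have hcard : Nat.card L = Fintype.card F ^ 2 := by
    rw [FiniteField.natCard_extension, Nat.card_eq_fintype_card]
  have hdim : Module.finrank F L = 2 := FiniteField.finrank_extension _ _ _
  obtain ⟨-, -, -, h4⟩ := arith_linear (Fintype.card F) Fintype.one_lt_card
  obtain ⟨γ, hγ⟩ := IsCyclic.exists_ofOrder_eq_natCard (α := Lˣ)
  have hγo : orderOf (γ : L) = Fintype.card F ^ 2 - 1 := by
    rw [orderOf_units, hγ, Nat.card_units, hcard]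
  let b : Module.Basis (Fin 2) F L := Module.finBasisOfFinrankEq F L hdim
  set T := Algebra.leftMulMatrix b (γ : L) with hT
  have hT0 : T.det ≠ 0 := by
    rw [hT, ← Algebra.norm_eq_matrix_det]
    exact Algebra.norm_ne_zero_iff.mpr (Units.ne_zero _)
  let D : Matrix (Fin 2 ⊕ Fin 1) (Fin 2 ⊕ Fin 1) F :=
    Matrix.fromBlocks T 0 0 (Matrix.diagonal fun _ => T.det⁻¹)
  let M : Matrix (Fin 3) (Fin 3) F :=
    Matrix.reindexAlgEquiv F F (finSumFinEquiv : Fin 2 ⊕ Fin 1 ≃ Fin 3) D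
  have hdet : M.det = 1 := by
    simp only [M, D, Matrix.det_reindexAlgEquiv, Matrix.det_fromBlocks_zero₂₁, Matrix.det_diagonal]
    simp [mul_inv_cancel₀ hT0]
  refine ⟨QuotientGroup.mk ⟨M, hdet⟩, dvd_orderOf_psl _ fun k c hk hcd => ?_⟩
  have h0 : D ^ k = Matrix.scalar (Fin 2 ⊕ Fin 1) c := by
    refine (Matrix.reindexAlgEquiv F F (finSumFinEquiv : Fin 2 ⊕ Fin 1 ≃ Fin 3)).injective ?_
    rw [map_pow]
    refine hk.trans ?_
    simp [Matrix.scalar_apply, Matrix.reindexAlgEquiv_apply, Matrix.submatrix_diagonal_equiv]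
  have h1 : T ^ k = Matrix.scalar (Fin 2) c := by
    have := congrArg Matrix.toBlocks₁₁ h0
    rw [Matrix.fromBlocks_diagonal_pow, Matrix.toBlocks_fromBlocks₁₁] at this
    rw [this]
    ext i j
    simp [Matrix.toBlocks₁₁, Matrix.scalar_apply, Matrix.diagonal_apply]
  have h2 : (γ : L) ^ k = algebraMap F L c := by
    refine Algebra.leftMulMatrix_injective b ?_
    rw [map_pow, AlgHom.commutes, ← hT, h1, Matrix.algebraMap_eq_diagonal, Matrix.scalar_apply]
    rfl
  refine dvd_of_pow_mul_eq_one (x := (γ : L)) (d := Nat.gcd 3 (Fintype.card F - 1)) (Nat.gcd_pos_of_pos_left _ (by norm_num))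
    (by rw [hγo, Nat.mul_div_cancel' h4]) ?_
  rw [pow_mul, h2, ← map_pow, hcd, map_one]

/-- The spectrum of `PSL₃(q)`. -/
theorem psl_spectrum (p : ℕ) [Fact p.Prime] [CharP F p] :
    Set.range (orderOf : Matrix.ProjectiveSpecialLinearGroup (Fin 3) F → ℕ) =
      {m : ℕ | m ∣ (Fintype.card F ^ 2 + Fintype.card F + 1) / Nat.gcd 3 (Fintype.card F - 1) ∨
        m ∣ (Fintype.card F ^ 2 - 1) / Nat.gcd 3 (Fintype.card F - 1) ∨ m ∣ Fintype.card F - 1 ∨
        m ∣ p * (Fintype.card F - 1) / Nat.gcd 3 (Fintype.card F - 1) ∨ (p = 2 ∧ m ∣ 4)} := by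
  ext m
  constructor
  · rintro ⟨x, rfl⟩
    obtain ⟨N, hN, hdvd⟩ := psl_bound p x
    rcases hN with rfl | rfl | rfl | rfl | ⟨hp, rfl⟩
    · exact Or.inl hdvd
    · exact Or.inr (Or.inl hdvd)
    · exact Or.inr (Or.inr (Or.inl hdvd))
    · exact Or.inr (Or.inr (Or.inr (Or.inl hdvd)))
    · exact Or.inr (Or.inr (Or.inr (Or.inr ⟨hp, hdvd⟩)))
  · rintro (h | h | h | h | ⟨hp, h⟩)
    · exact mem_range_orderOf (exists_cubic p) h
    · exact mem_range_orderOf (exists_quadratic p) h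
    · exact mem_range_orderOf exists_split h
    · exact mem_range_orderOf (exists_repeated p) h
    · subst hp
      exact mem_range_orderOf exists_four h

end CfsgLib.SpectrumThree
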