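import Mathlib

/-!
Exponents of three-dimensional unimodular matrices modulo scalars, from the action of a Frobenius map on the
three eigenvalues.
-/

set_option autoImplicit false

namespace CfsgLib.SpectrumThree

open Polynomial

/-- The possible actions of `x ↦ x ^ e` on three eigenvalues with product one. -/
theorem orbit_cases {G : Type*} [CommGroup G] (u : Fin 3 → G) (e : ℤ) (d N₁ N₂ : ℕ)
    (hinj : ∀ i j, u i ^ e = u j ^ e → u i = u j) (hcl : ∀ i, ∃ j, u i ^ e = u j)
    (hprod : u 0 * u 1 * u 2 = 1) (hd : (d : ℤ) ∣ e - 1) (hd3 : d ∣ 3)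
    (hN₁ : (d : ℤ) * N₁ = e ^ 2 + e + 1) (hN₂ : (d : ℤ) * N₂ = e ^ 2 - 1) :
    (∀ i, u i ^ e = u i) ∨
      (Function.Injective u ∧ ((∀ i j, u i ^ N₁ = u j ^ N₁) ∨ ∀ i j, u i ^ N₂ = u j ^ N₂)) := by
  classical
  by_cases hfix : ∀ i, u i ^ e = u i
  · exact Or.inl hfix
  refine Or.inr ?_
  push Not at hfix
  obtain ⟨i, hi⟩ := hfix
  obtain ⟨j, hj⟩ := hcl i
  have hij : i ≠ j := fun h => hi (h ▸ hj)
  obtain ⟨k, hki, hkj⟩ := (by decide : ∀ a b : Fin 3, ∃ k : Fin 3, k ≠ a ∧ k ≠ b) i j
  have hcover : ∀ l : Fin 3, l = i ∨ l = j ∨ l = k := by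
    have key : ∀ a b c l : Fin 3, a ≠ b → c ≠ a → c ≠ b → l = a ∨ l = b ∨ l = c := by decide
    exact fun l => key i j k l hij hki hkj
  have hprod' : u i * u j * u k = 1 := by
    rw [← hprod, ← Fin.prod_univ_three]
    have hu : (Finset.univ : Finset (Fin 3)) = {i, j, k} := by
      ext l; simpa using hcover l
    rw [hu, Finset.prod_insert (by simp [hij, hki.symm]), Finset.prod_pair hkj.symm, mul_assoc]
  have hne : u i ≠ u j := fun h => hi (by rw [hj, h])
  have hjne : u j ^ e ≠ u j := fun h => hne (hinj i j (by rw [hj, h]))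
  obtain ⟨k₀, hk₀⟩ := hd
  obtain ⟨d', hd'⟩ := hd3
  set a := u i with ha
  have hb : u j = a ^ e := hj.symm
  obtain ⟨l, hl⟩ := hcl j
  rcases hcover l with rfl | rfl | rfl
  · -- an orbit of length two
    have hper : a ^ (e * e) = a := by rw [zpow_mul, ← hb, hl]
    have hc : u k = a ^ (-(1 + e)) := by
      rw [zpow_neg, eq_inv_iff_mul_eq_one, zpow_add, zpow_one, ← hb, mul_comm, hprod']
    have hne3 : a ^ (e + 2) ≠ 1 := fun h => hi <| by
      have h2 : a ^ (e * e + 2 * e) = 1 := by
        rw [show e * e + 2 * e = (e + 2) * e by ring, zpow_mul, h, one_zpow]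
      rw [zpow_add, hper, ← zpow_one_add] at h2
      have h3 : a ^ (e - 1) = 1 := by
        rw [show e - 1 = (1 + 2 * e) + -(e + 2) by ring, zpow_add, zpow_neg, h, h2, inv_one, one_mul]
      rw [zpow_sub_one] at h3
      rw [ha] at h3 ⊢
      exact mul_inv_eq_one.mp h3
    have hki' : u k ≠ a := fun h => hne3 <| by
      have h1 : a * a ^ e * a = 1 := by rw [← hb, ← h]; simpa [h] using hprod'
      rw [← h1, zpow_add, zpow_two]
      exact mul_left_comm _ _ _ |>.trans (mul_assoc _ _ _).symm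
    have hkj' : u k ≠ u j := fun h => hne3 <| by
      have h1 : a * a ^ e * a ^ e = 1 := by rw [← hb]; simpa [h] using hprod'
      have h2 : (a * a ^ e * a ^ e) ^ e = 1 := by rw [h1, one_zpow]
      rw [mul_zpow, mul_zpow, ← zpow_mul, hper] at h2
      rw [← h2, zpow_add, zpow_two, mul_assoc]
    refine ⟨?_, Or.inr ?_⟩
    · intro x y hxy
      rcases hcover x with rfl | rfl | rfl <;> rcases hcover y with rfl | rfl | rfl <;>
        first
          | rfl
          | exact absurd hxy hne
          | exact absurd hxy.symm hne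
          | exact absurd hxy hki'
          | exact absurd hxy.symm hki'
          | exact absurd hxy hkj'
          | exact absurd hxy.symm hkj'
    · have h2 : a ^ (e ^ 2 - 1) = 1 := by rw [sq, zpow_sub_one, hper, mul_inv_cancel]
      have hj' : u j ^ N₂ = a ^ N₂ := by
        rw [hb, ← zpow_natCast, ← zpow_mul, ← zpow_natCast a N₂,
          show e * (N₂ : ℤ) = N₂ + (e ^ 2 - 1) * k₀ by rw [← hN₂]; linear_combination (N₂ : ℤ) * hk₀,
          zpow_add, zpow_mul, h2, one_zpow, mul_one]
      have hk' : u k ^ N₂ = a ^ N₂ := by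
        rw [hc, ← zpow_natCast, ← zpow_mul, ← zpow_natCast a N₂,
          show -(1 + e) * (N₂ : ℤ) = N₂ + (e ^ 2 - 1) * (-(k₀ + d')) by
            have h3 : (3 : ℤ) = (d : ℤ) * d' := by exact_mod_cast hd'
            rw [← hN₂]; linear_combination -(N₂ : ℤ) * hk₀ - (N₂ : ℤ) * h3,
          zpow_add, zpow_mul, h2, one_zpow, mul_one]
      intro x y
      rcases hcover x with rfl | rfl | rfl <;> rcases hcover y with rfl | rfl | rfl <;>
        simp only [hj', hk', ha]
  · exact absurd hl hjne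
  · -- an orbit of length three
    have hki' : u l ≠ a := fun h => by
      have hper : a ^ (e * e) = a := by rw [zpow_mul, ← hb, hl, h]
      have h1 : a * a ^ e * a = 1 := by rw [← hb]; simpa [h] using hprod'
      have h2 : (a * a ^ e * a) ^ e = 1 := by rw [h1, one_zpow]
      rw [mul_zpow, mul_zpow, ← zpow_mul, hper, ← h1] at h2
      have h4 : a ^ e * a = a * a := mul_right_cancel (b := a ^ e)
        (by rw [h2]; exact (mul_right_comm _ _ _).symm)
      exact hi (mul_right_cancel h4)
    have hkj' : u l ≠ u j := fun h => hjne (by rw [hl, h])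
    have hsum : a ^ (e ^ 2 + e + 1) = 1 := by
      rw [sq, zpow_add, zpow_add, zpow_one, zpow_mul, ← hb, hl]
      calc u l * u j * a = a * u j * u l := by rw [mul_comm (u l), mul_comm (u j * u l), mul_assoc]
        _ = 1 := hprod'
    refine ⟨?_, Or.inl ?_⟩
    · intro x y hxy
      rcases hcover x with rfl | rfl | rfl <;> rcases hcover y with rfl | rfl | rfl <;>
        first
          | rfl
          | exact absurd hxy hne
          | exact absurd hxy.symm hne
          | exact absurd hxy hki'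
          | exact absurd hxy.symm hki'
          | exact absurd hxy hkj'
          | exact absurd hxy.symm hkj'
    · have hj' : u j ^ N₁ = a ^ N₁ := by
        rw [hb, ← zpow_natCast, ← zpow_mul, ← zpow_natCast a N₁,
          show e * (N₁ : ℤ) = N₁ + (e ^ 2 + e + 1) * k₀ by
            rw [← hN₁]; linear_combination (N₁ : ℤ) * hk₀,
          zpow_add, zpow_mul, hsum, one_zpow, mul_one]
      have hk' : u l ^ N₁ = a ^ N₁ := by
        rw [← hl, ← zpow_natCast, ← zpow_mul, mul_comm e, zpow_mul, zpow_natCast, hj', ← zpow_natCast,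
          ← zpow_mul, mul_comm, zpow_mul, ← hb, zpow_natCast, hj', zpow_natCast]
      intro x y
      rcases hcover x with rfl | rfl | rfl <;> rcases hcover y with rfl | rfl | rfl <;>
        simp only [hj', hk', ha]

variable {K : Type*} [Field K]

local notation "M₃" => Matrix (Fin 3) (Fin 3) K

/-- A matrix killed by a square-free split polynomial. -/
theorem pow_eq_smul (h : M₃) (S : Finset K) (hS : aeval h (∏ c ∈ S, (X - C c)) = 0) (k : ℕ) (s : K)
    (hs : ∀ c ∈ S, c ^ k = s) : h ^ k = s • (1 : M₃) := by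
  have hdvd : ∏ c ∈ S, (X - C c) ∣ (X ^ k - C s : K[X]) := by
    refine Finset.prod_dvd_of_coprime ?_ fun c hc => ?_
    · intro a _ b _ hab
      exact isCoprime_X_sub_C_of_isUnit_sub (sub_ne_zero.mpr hab).isUnit
    · rw [dvd_iff_isRoot]
      simp [hs c hc]
  obtain ⟨Q, hQ⟩ := hdvd
  have := congrArg (aeval h) hQ
  rw [map_mul, hS, zero_mul, map_sub, map_pow, aeval_X, aeval_C, sub_eq_zero,
    Algebra.algebraMap_eq_smul_one] at this
  exact this

/-- Killing by a power of the product of the distinct factors. -/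
theorem aeval_pow_eq_zero [DecidableEq K] (p : ℕ) [Fact p.Prime] [CharP K p] (A : M₃) (u : Fin 3 → K)
    (hcp : A.charpoly = ∏ i, (X - C (u i))) (t : ℕ)
    (hm : ∀ c, (Finset.univ.filter fun i => u i = c).card ≤ p ^ t) :
    ∃ S : Finset K, (∀ c ∈ S, ∃ i, c = u i ^ p ^ t) ∧ aeval (A ^ p ^ t) (∏ c ∈ S, (X - C c)) = 0 := by
  classical
  refine ⟨(Finset.univ.image u).image (iterateFrobenius K p t), fun c hc => ?_, ?_⟩
  · simp only [Finset.mem_image, Finset.mem_univ, true_and] at hc
    obtain ⟨x, ⟨i, rfl⟩, rfl⟩ := hc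
    exact ⟨i, iterateFrobenius_def _ _ _⟩
  rw [Finset.prod_image (fun x _ y _ h => (iterateFrobenius K p t).injective h)]
  have h1 : A.charpoly ∣ (∏ c ∈ Finset.univ.image u, (X - C c)) ^ p ^ t := by
    rw [hcp, Finset.prod_comp (fun c => X - C c) u, ← Finset.prod_pow]
    exact Finset.prod_dvd_prod_of_dvd _ _ fun c _ => pow_dvd_pow _ (hm c)
  have h2 : (∏ c ∈ Finset.univ.image u, (X - C c)) ^ p ^ t =
      (∏ c ∈ Finset.univ.image u, (X - C (iterateFrobenius K p t c))).comp (X ^ p ^ t) := by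
    rw [← Finset.prod_pow, Polynomial.prod_comp]
    refine Finset.prod_congr rfl fun c _ => ?_
    rw [sub_comp, X_comp, C_comp, iterateFrobenius_def, C_pow, sub_pow_char_pow]
  obtain ⟨Q, hQ⟩ := h1
  have := congrArg (aeval A) hQ
  rw [map_mul, Matrix.aeval_self_charpoly, zero_mul, h2, aeval_comp, map_pow, aeval_X] at this
  exact this

/-- The exponent of a matrix modulo scalars. -/
theorem scalar_bound (p : ℕ) [Fact p.Prime] [CharP K p] (A : M₃) (u : Fin 3 → Kˣ)
    (hcp : A.charpoly = ∏ i, (X - C (u i : K))) (hprod : u 0 * u 1 * u 2 = 1) (d r N₁ N₂ : ℕ)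
    (hdr : d ∣ r) (hd3 : d ∣ 3)
    (hcase : (∀ i, u i ^ r = 1) ∨
      (Function.Injective u ∧ ((∀ i j, u i ^ N₁ = u j ^ N₁) ∨ ∀ i j, u i ^ N₂ = u j ^ N₂))) :
    ∃ N, (N = r ∨ N = p * (r / d) ∨ (p = 2 ∧ N = 4) ∨ N = N₁ ∨ N = N₂) ∧
      ∃ s : K, A ^ N = s • (1 : M₃) := by
  classical
  set v : Fin 3 → K := fun i => (u i : K) with hv
  have hv' : ∀ i j, v i = v j ↔ u i = u j := fun i j => Units.val_inj
  have hss : Function.Injective u → ∀ N, (∀ i j, u i ^ N = u j ^ N) → ∃ s : K, A ^ N = s • (1 : M₃) := by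
    intro hu N hN
    obtain ⟨S, hS, hS0⟩ := aeval_pow_eq_zero p A v hcp 0 (fun c => by
      rw [pow_zero, Finset.card_le_one]
      intro a ha b hb
      simp only [Finset.mem_filter, Finset.mem_univ, true_and] at ha hb
      exact hu ((hv' a b).mp (ha.trans hb.symm)))
    rw [pow_zero, pow_one] at hS0
    refine ⟨v 0 ^ N, pow_eq_smul A S hS0 N _ fun c hc => ?_⟩
    obtain ⟨i, rfl⟩ := hS c hc
    rw [pow_zero, pow_one]
    simpa [hv] using congrArg (Units.val (α := K)) (hN i 0)
  rcases hcase with hr | ⟨hu, h | h⟩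
  rotate_left
  · exact ⟨N₁, by tauto, hss hu N₁ h⟩
  · exact ⟨N₂, by tauto, hss hu N₂ h⟩
  by_cases hu : Function.Injective u
  · exact ⟨r, Or.inl rfl, hss hu r fun i j => by rw [hr, hr]⟩
  have hp2 : 2 ≤ p := (Fact.out : p.Prime).two_le
  by_cases hall : ∀ i, u i = u 0
  · rcases Nat.lt_or_ge p 3 with hp | hp
    · obtain ⟨S, hS, hS0⟩ := aeval_pow_eq_zero p A v hcp 2 (fun c => by
        have := Finset.card_le_univ (Finset.univ.filter fun i => v i = c)
        simp only [Fintype.card_fin] at this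
        have h2 : 2 ^ 2 ≤ p ^ 2 := Nat.pow_le_pow_left (Fact.out : p.Prime).two_le 2
        omega)
      refine ⟨4, by omega, v 0 ^ 4, ?_⟩
      have h4 : p ^ 2 = 4 := by rw [show p = 2 by omega]; norm_num
      rw [h4] at hS0 hS
      rw [← pow_one (A ^ 4)]
      refine pow_eq_smul _ S hS0 1 _ fun c hc => ?_
      obtain ⟨i, rfl⟩ := hS c hc
      rw [pow_one, (hv' i 0).mpr (hall i)]
    · obtain ⟨S, hS, hS0⟩ := aeval_pow_eq_zero p A v hcp 1 (fun c => by
        have := Finset.card_le_univ (Finset.univ.filter fun i => v i = c)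
        simp only [Fintype.card_fin] at this
        rw [pow_one]; omega)
      refine ⟨p * (r / d), by tauto, (v 0 ^ p) ^ (r / d), ?_⟩
      rw [pow_one] at hS0 hS
      rw [pow_mul]
      refine pow_eq_smul _ S hS0 _ _ fun c hc => ?_
      obtain ⟨i, rfl⟩ := hS c hc
      rw [(hv' i 0).mpr (hall i)]
  · -- exactly one repeated eigenvalue
    obtain ⟨i, j, k, hij, hkij, hk⟩ : ∃ i j k : Fin 3,
        u i = u j ∧ (∀ l, l = i ∨ l = j ∨ l = k) ∧ u i * u j * u k = 1 := by
      rw [Function.Injective] at hu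
      push Not at hu
      obtain ⟨a, b, hab, hne⟩ := hu
      fin_cases a <;> fin_cases b <;> first
        | exact absurd rfl hne
        | exact ⟨0, 1, 2, hab, by decide, hprod⟩
        | exact ⟨0, 1, 2, hab.symm, by decide, hprod⟩
        | exact ⟨0, 2, 1, hab, by decide, by rw [← hprod, mul_right_comm]⟩
        | exact ⟨0, 2, 1, hab.symm, by decide, by rw [← hprod, mul_right_comm]⟩
        | exact ⟨1, 2, 0, hab, by decide, by rw [← hprod, mul_comm (u 1 * u 2), mul_assoc]⟩
        | exact ⟨1, 2, 0, hab.symm, by decide, by rw [← hprod, mul_comm (u 1 * u 2), mul_assoc]⟩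
    have hki : u k ≠ u i := fun h => hall fun l => by
      rcases hkij l with rfl | rfl | rfl <;> rcases hkij 0 with h0 | h0 | h0 <;> rw [h0] <;>
        simp [h, hij]
    obtain ⟨S, hS, hS0⟩ := aeval_pow_eq_zero p A v hcp 1 (fun c => by
      rw [pow_one]
      refine le_trans ?_ hp2
      by_contra hc
      have h3 : (Finset.univ.filter fun i => v i = c) = Finset.univ :=
        Finset.eq_univ_of_card _ (by
          have := Finset.card_le_univ (Finset.univ.filter fun i => v i = c)
          simp only [Fintype.card_fin] at this ⊢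
          omega)
      have h4 : ∀ l, v l = c := fun l => by
        have := Finset.mem_univ l
        rw [← h3, Finset.mem_filter] at this
        exact this.2
      exact hki ((hv' k i).mp ((h4 k).trans (h4 i).symm)))
    rw [pow_one] at hS0 hS
    refine ⟨p * (r / d), by tauto, (v i ^ p) ^ (r / d), ?_⟩
    rw [pow_mul]
    refine pow_eq_smul _ S hS0 _ _ fun c hc => ?_
    obtain ⟨l, rfl⟩ := hS c hc
    obtain ⟨d', hd'⟩ := hd3
    have h1 : u i ^ (3 * (r / d)) = 1 := by
      rw [hd', mul_right_comm, Nat.mul_div_cancel' hdr, pow_mul, hr, one_pow]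
    have hk' : u k ^ (r / d) = u i ^ (r / d) := by
      have h2 : (u i * u j * u k) ^ (r / d) = 1 := by rw [hk, one_pow]
      rw [← hij, mul_pow, mul_pow] at h2
      rw [pow_mul, pow_right_comm, ← h2, show (3 : ℕ) = 2 + 1 from rfl, pow_succ, sq] at h1
      exact (mul_left_cancel h1).symm
    rw [← pow_mul, ← pow_mul, mul_comm p, pow_mul, pow_mul]
    congr 1
    rcases hkij l with rfl | rfl | rfl
    · rfl
    · rw [(hv' _ _).mpr hij.symm]
    · simpa [hv] using congrArg (Units.val (α := K)) hk'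

/-- The three eigenvalues. -/
theorem exists_roots [IsAlgClosed K] (A : M₃) (hdet : A.det = 1) :
    ∃ u : Fin 3 → Kˣ, A.charpoly = ∏ i, (X - C (u i : K)) ∧ u 0 * u 1 * u 2 = 1 := by
  have h1 := (IsAlgClosed.splits A.charpoly).eq_prod_roots_of_monic A.charpoly_monic
  have hc : A.charpoly.roots.card = 3 := by
    rw [← (IsAlgClosed.splits A.charpoly).natDegree_eq_card_roots, Matrix.charpoly_natDegree_eq_dim,
      Fintype.card_fin]
  obtain ⟨x, y, z, hxyz⟩ := Multiset.card_eq_three.mp hc
  rw [hxyz] at h1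
  have h2 : A.charpoly = (X - C x) * (X - C y) * (X - C z) := by
    rw [h1]; simp [mul_assoc]
  have h3 : x * y * z = 1 := by
    have h4 := congrArg (Polynomial.eval 0) h2
    rw [Matrix.eval_charpoly, map_zero, zero_sub, Matrix.det_neg, hdet, Fintype.card_fin] at h4
    simp only [eval_mul, eval_sub, eval_X, eval_C, zero_sub] at h4
    linear_combination h4
  have hx : x ≠ 0 := fun h => by simp [h] at h3
  have hy : y ≠ 0 := fun h => by simp [h] at h3
  have hz : z ≠ 0 := fun h => by simp [h] at h3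
  refine ⟨![Units.mk0 x hx, Units.mk0 y hy, Units.mk0 z hz], ?_, Units.ext ?_⟩
  · rw [h2, Fin.prod_univ_three]; simp
  · simp [h3]

/-- An element whose order is a multiple gives every divisor. -/
theorem mem_range_orderOf {G : Type*} [Group G] [Finite G] {N m : ℕ} (h : ∃ g : G, N ∣ orderOf g)
    (hm : m ∣ N) : m ∈ Set.range (orderOf : G → ℕ) := by
  obtain ⟨g, hg⟩ := h
  exact ⟨g ^ (orderOf g / m), orderOf_pow_orderOf_div (orderOf_pos g).ne' (hm.trans hg)⟩

/-- Cancelling `d`. -/
theorem dvd_of_pow_mul_eq_one {G : Type*} [Monoid G] {x : G} {d N k : ℕ} (hd : 0 < d)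
    (hx : orderOf x = d * N) (h : x ^ (k * d) = 1) : N ∣ k := by
  have := orderOf_dvd_of_pow_eq_one h
  rw [hx, mul_comm k d] at this
  exact Nat.dvd_of_mul_dvd_mul_left hd this

end CfsgLib.SpectrumThree
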