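import Cfsg.Agent.Lib.SpectrumThree.Core
import Cfsg.Agent.Lib.SpectrumPowers.UnitaryBound

/-!
Scalar powers of unimodular `3 × 3` matrices over a finite field whose eigenvalues are permuted by
`x ↦ x ^ e`, and some shared matrices.
-/

set_option autoImplicit false

namespace CfsgLib.SpectrumThree

open Polynomial Matrix

variable {F : Type*} [Field F] [Fintype F]

/-- The bound over the field itself. -/
theorem scalar_exponent (p : ℕ) [Fact p.Prime] [CharP F p] (A : Matrix (Fin 3) (Fin 3) F) (hdet : A.det = 1)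
    (q d r N₁ N₂ : ℕ) (e : ℤ) (hq : ∃ a, q = p ^ a) (he : e = q ∨ e = -q) (hr : r = (e - 1).natAbs)
    (hclosed : ∀ x : AlgebraicClosure F, x ≠ 0 →
      (A.map (algebraMap F (AlgebraicClosure F))).charpoly.IsRoot x →
      (A.map (algebraMap F (AlgebraicClosure F))).charpoly.IsRoot (x ^ e))
    (hdr : d ∣ r) (hd3 : d ∣ 3) (hN₁ : (d : ℤ) * N₁ = e ^ 2 + e + 1) (hN₂ : (d : ℤ) * N₂ = e ^ 2 - 1) :
    ∃ N, (N = r ∨ N = p * (r / d) ∨ (p = 2 ∧ N = 4) ∨ N = N₁ ∨ N = N₂) ∧
      ∃ c : F, A ^ N = Matrix.scalar (Fin 3) c := by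
  classical
  let K := AlgebraicClosure F
  set ι := algebraMap F K with hι
  have : CharP K p := charP_of_injective_algebraMap ι.injective p
  set B := A.map ι with hB
  have hBdet : B.det = 1 := by
    rw [hB, ← RingHom.mapMatrix_apply, ← RingHom.map_det, hdet, map_one]
  obtain ⟨u, hu, hprod⟩ := exists_roots B hBdet
  have hroot : ∀ y : K, B.charpoly.IsRoot y → ∃ i, y = u i := fun y hy => by
    rw [hu, IsRoot, eval_prod, Finset.prod_eq_zero_iff] at hy
    obtain ⟨i, -, hi⟩ := hy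
    exact ⟨i, by simpa [sub_eq_zero] using hi⟩
  have hde : (d : ℤ) ∣ e - 1 := Int.natCast_dvd.mpr (hr ▸ hdr)
  obtain ⟨a, ha⟩ := hq
  have hinjq : ∀ x y : Kˣ, x ^ q = y ^ q → x = y := fun x y h => by
    refine Units.ext ((iterateFrobenius K p a).injective ?_)
    rw [iterateFrobenius_def, iterateFrobenius_def, ← ha, ← Units.val_pow_eq_pow_val, h,
      Units.val_pow_eq_pow_val]
  have hinj : ∀ i j, u i ^ e = u j ^ e → u i = u j := fun i j h => by
    rcases he with he | he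
    · rw [he, zpow_natCast, zpow_natCast] at h; exact hinjq _ _ h
    · rw [he, _root_.zpow_neg, _root_.zpow_neg, _root_.inv_inj, zpow_natCast, zpow_natCast] at h
      exact hinjq _ _ h
  have hcl : ∀ i, ∃ j, u i ^ e = u j := fun i => by
    have h0 : B.charpoly.IsRoot (u i : K) := by
      rw [hu, IsRoot, eval_prod]
      exact Finset.prod_eq_zero (Finset.mem_univ i) (by simp)
    obtain ⟨j, hj⟩ := hroot _ (hclosed _ (Units.ne_zero _) h0)
    exact ⟨j, Units.ext (by rw [Units.val_zpow_eq_zpow_val]; exact hj)⟩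
  have hfix : ∀ x : Kˣ, x ^ e = x → x ^ r = 1 := fun x hx => by
    have h1 : x ^ (e - 1) = 1 := by rw [_root_.zpow_sub_one, hx, mul_inv_cancel]
    rcases Int.natAbs_eq (e - 1) with h | h
    · rw [h, ← hr, zpow_natCast] at h1; exact h1
    · rw [h, ← hr, _root_.zpow_neg, zpow_natCast, inv_eq_one] at h1; exact h1
  have hcase : (∀ i, u i ^ r = 1) ∨
      (Function.Injective u ∧ ((∀ i j, u i ^ N₁ = u j ^ N₁) ∨ ∀ i j, u i ^ N₂ = u j ^ N₂)) :=
    (orbit_cases u e d N₁ N₂ hinj hcl hprod hde hd3 hN₁ hN₂).imp_left fun h i => hfix _ (h i)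
  obtain ⟨N, hN, s, hs⟩ := scalar_bound p B u hu hprod d r N₁ N₂ hdr hd3 hcase
  refine ⟨N, hN, (A ^ N) 0 0, ?_⟩
  have hmap : (A ^ N).map ι = s • (1 : Matrix (Fin 3) (Fin 3) K) := by rw [Matrix.map_pow, ← hB, hs]
  ext i j
  have h1 := congrFun (congrFun hmap i) j
  have h2 := congrFun (congrFun hmap 0) 0
  simp only [Matrix.map_apply, Matrix.smul_apply, Matrix.one_apply, smul_eq_mul] at h1 h2
  rw [Matrix.scalar_apply, Matrix.diagonal_apply]
  refine ι.injective ?_
  rw [h1]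
  split_ifs with hij
  · rw [h2]; simp
  · simp

/-- The power of a matrix with one repeated eigenvalue. -/
theorem repeated_pow (a b : F) (W : Matrix (Fin 3) (Fin 3) F) (hW : W * W = 0)
    (hc : Commute (Matrix.diagonal ![a, a, b]) W) (k : ℕ) :
    (Matrix.diagonal ![a, a, b] * (1 + W)) ^ k =
      Matrix.diagonal ![a ^ k, a ^ k, b ^ k] * (1 + (k : F) • W) := by
  rw [((Commute.one_right _).add_right hc).mul_pow, Matrix.diagonal_pow]
  congr 1
  · congr 1; ext i; fin_cases i <;> rfl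
  induction k with
  | zero => simp
  | succ k ih =>
    rw [pow_succ, ih, Matrix.add_mul, Matrix.one_mul, Matrix.smul_mul, Matrix.mul_add, Matrix.mul_one,
      hW, add_zero, Nat.cast_succ, add_smul, one_smul]
    abel

theorem dvd_of_repeated (p : ℕ) [Fact p.Prime] [CharP F p] {r d k : ℕ} (a : F) (hd : 0 < d) (hdr : d ∣ r)
    (hp : ¬ p ∣ r) (ha : orderOf a = r) (hka : a ^ k ≠ 0 → (k : F) = 0) (ha0 : a ≠ 0)
    (hd1 : (a ^ k) ^ d = 1) : p * (r / d) ∣ k := by
  have hpk : p ∣ k := (CharP.cast_eq_zero_iff F p k).mp (hka (pow_ne_zero _ ha0))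
  have hN : r / d ∣ k := dvd_of_pow_mul_eq_one (x := a) hd (by rw [ha, Nat.mul_div_cancel' hdr])
    (by rw [pow_mul]; exact hd1)
  exact ((Fact.out : p.Prime).coprime_iff_not_dvd.mpr
    fun h => hp (h.trans (Nat.div_dvd_of_dvd hdr))).mul_dvd_of_dvd_of_dvd hpk hN

end CfsgLib.SpectrumThree
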