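import Cfsg.Agent.Lib.SpectrumThree.Field
import Cfsg.Agent.Lib.SpectrumPowers.UnitaryWitness

/-!
The element orders of `PSU₃(q)` for odd `q`.
-/

set_option autoImplicit false

namespace CfsgLib.SpectrumThree

open Polynomial Matrix

variable {F : Type*} [Field F] [Fintype F] {q : ℕ}

theorem arith_unitary (q : ℕ) (hq : 1 ≤ q) :
    Nat.gcd 3 (q + 1) ∣ q + 1 ∧ Nat.gcd 3 (q + 1) ∣ 3 ∧ Nat.gcd 3 (q + 1) ∣ q ^ 2 - q + 1 ∧
      Nat.gcd 3 (q + 1) ∣ q ^ 2 - 1 := by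
  have h1 := Nat.gcd_dvd_right 3 (q + 1)
  have h3 := Nat.gcd_dvd_left 3 (q + 1)
  refine ⟨h1, h3, ?_, ?_⟩
  · have h1' : ((Nat.gcd 3 (q + 1) : ℕ) : ℤ) ∣ (q : ℤ) + 1 := by exact_mod_cast Int.natCast_dvd_natCast.mpr h1
    have h3' : ((Nat.gcd 3 (q + 1) : ℕ) : ℤ) ∣ 3 := by exact_mod_cast Int.natCast_dvd_natCast.mpr h3
    refine Int.natCast_dvd_natCast.mp ?_
    rw [Nat.cast_add, Nat.cast_sub (Nat.le_self_pow two_ne_zero q)]
    push_cast
    rw [show (q : ℤ) ^ 2 - q + 1 = ((q : ℤ) + 1) * (q - 2) + 3 by ring]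
    exact dvd_add (h1'.mul_right _) h3'
  · rw [show q ^ 2 - 1 = (q + 1) * (q - 1) by rw [← Nat.sq_sub_sq, one_pow]]
    exact h1.mul_right _

theorem su_scalar_pow {s : F →+* F} (hs : ∀ x, s x = x ^ q) {g : Cfsg.SU 3 F q} {k : ℕ} {c : F}
    (hc : g.1.1 ^ k = Matrix.scalar (Fin 3) c) : c ^ Nat.gcd 3 (q + 1) = 1 := by
  have h := congrArg Matrix.det hc
  rw [Matrix.det_pow, g.1.2, one_pow, Matrix.scalar_apply, Matrix.det_diagonal] at h
  have h3 : c ^ 3 = 1 := by simpa using h.symm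
  refine pow_gcd_eq_one.mpr ⟨h3, ?_⟩
  have h2 := (CfsgLib.SpectrumPowers.mem_SU_iff hs (g ^ k).1).mp (g ^ k).2
  rw [SubmonoidClass.coe_pow, Matrix.SpecialLinearGroup.coe_pow, hc, Matrix.scalar_apply,
    Matrix.diagonal_map (map_zero s), Matrix.diagonal_transpose, Matrix.diagonal_mul_diagonal,
    ← Matrix.diagonal_one] at h2
  have := congrFun (Matrix.diagonal_injective h2) 0
  rw [hs] at this
  rw [pow_succ]; exact this

theorem dvd_orderOf_psu (hF : Fintype.card F = q ^ 2) {s : F →+* F} (hs : ∀ x, s x = x ^ q)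
    (g : Cfsg.SU 3 F q) {N : ℕ}
    (h : ∀ (k : ℕ) (c : F), g.1.1 ^ k = Matrix.scalar (Fin 3) c → c ^ Nat.gcd 3 (q + 1) = 1 → N ∣ k) :
    N ∣ orderOf (QuotientGroup.mk g : Cfsg.PSU 3 F q) := by
  set k := orderOf (QuotientGroup.mk g : Cfsg.PSU 3 F q)
  have h1 : (QuotientGroup.mk (g ^ k) : Cfsg.PSU 3 F q) = 1 := by
    rw [QuotientGroup.mk_pow]; exact pow_orderOf_eq_one _
  obtain ⟨c, hc⟩ := (CfsgLib.SpectrumPowers.mk_eq_one_iff_SU hF le_rfl _).mp h1
  rw [SubmonoidClass.coe_pow, Matrix.SpecialLinearGroup.coe_pow] at hc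
  exact h k c hc (su_scalar_pow hs hc)

theorem psu_bound (hF : Fintype.card F = q ^ 2) (p : ℕ) [Fact p.Prime] [CharP F p] (hp : p ≠ 2)
    (x : Cfsg.PSU 3 F q) :
    ∃ N, (N = q + 1 ∨ N = p * (q + 1) / Nat.gcd 3 (q + 1) ∨
      N = (q ^ 2 - 1) / Nat.gcd 3 (q + 1) ∨ N = (q ^ 2 - q + 1) / Nat.gcd 3 (q + 1)) ∧
      orderOf x ∣ N := by
  obtain ⟨hq1, s, hs⟩ := CfsgLib.UnitaryBasic.frob_exists hF
  obtain ⟨a, hqa, -⟩ := CfsgLib.SpectrumPowers.exists_prime_pow hF p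
  obtain ⟨h1, h2, h3, h4⟩ := arith_unitary q hq1.le
  set d := Nat.gcd 3 (q + 1) with hd
  obtain ⟨g, rfl⟩ := QuotientGroup.mk_surjective x
  let K := AlgebraicClosure F
  set ι := algebraMap F K with hι
  have : CharP K p := charP_of_injective_algebraMap ι.injective p
  set A := g.1.1 with hA
  set fr : K →+* K := iterateFrobenius K p a with hfr
  have hfrx : ∀ y : K, fr y = y ^ q := fun y => by rw [hfr, iterateFrobenius_def, hqa]
  have hclosed : ∀ y : K, y ≠ 0 → (A.map ι).charpoly.IsRoot y →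
      (A.map ι).charpoly.IsRoot (y ^ (-(q : ℤ))) := fun y hy0 hy => by
    set B := A.map ι with hB
    have hrel : (B.map fr)ᵀ * B = 1 := by
      have h := (CfsgLib.SpectrumPowers.mem_SU_iff hs g.1).mp g.2
      have h' := congrArg (fun M : Matrix (Fin 3) (Fin 3) F => M.map ι) h
      simp only [Matrix.map_mul, Matrix.transpose_map, Matrix.map_one _ (map_zero ι) (map_one ι)] at h'
      rw [← h', hB, Matrix.map_map, Matrix.map_map]
      congr 2
      funext i j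
      simp only [Matrix.map_apply, Function.comp_apply, hs, hfrx, map_pow, hA]
    have e1 : (Matrix.scalar (Fin 3) (fr y) - (B.map fr)).det = 0 := by
      rw [IsRoot, Matrix.eval_charpoly] at hy
      have h' := congrArg fr hy
      rw [RingHom.map_det, map_zero, RingHom.mapMatrix_apply,
        Matrix.map_sub _ (map_sub fr), Matrix.scalar_apply, Matrix.diagonal_map (map_zero fr)] at h'
      exact h'
    set w := fr y with hw
    have hw0 : w ≠ 0 := (map_ne_zero fr).mpr hy0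
    have e2 : (Matrix.scalar (Fin 3) w * B - 1).det = 0 := by
      rw [← hrel, ← Matrix.sub_mul, Matrix.det_mul]
      have : (Matrix.scalar (Fin 3) w - (B.map fr)ᵀ) = (Matrix.scalar (Fin 3) w - B.map fr)ᵀ := by
        rw [Matrix.transpose_sub, Matrix.scalar_apply, Matrix.diagonal_transpose]
      rw [this, Matrix.det_transpose, e1, zero_mul]
    rw [IsRoot, Matrix.eval_charpoly, _root_.zpow_neg, zpow_natCast, ← hfrx, ← hw]
    have e3 : Matrix.scalar (Fin 3) w⁻¹ - B = (-(w⁻¹)) • (Matrix.scalar (Fin 3) w * B - 1) := by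
      rw [Matrix.scalar_apply, Matrix.scalar_apply, ← Matrix.smul_one_eq_diagonal, ← Matrix.smul_one_eq_diagonal,
        Matrix.smul_mul, Matrix.one_mul, smul_sub, smul_smul, neg_mul, inv_mul_cancel₀ hw0, neg_smul, neg_smul,
        one_smul, sub_neg_eq_add, neg_add_eq_sub]
    rw [e3, Matrix.det_smul, e2, mul_zero]
  have hq2 : 1 ≤ q ^ 2 := Nat.one_le_pow _ _ (by omega)
  obtain ⟨N, hN, c, hc⟩ := scalar_exponent p A g.1.2 q d (q + 1) ((q ^ 2 - q + 1) / d) ((q ^ 2 - 1) / d)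
    (-(q : ℤ)) ⟨a, hqa⟩ (Or.inr rfl) (by omega) hclosed h1 h2
    (by
      rw [← Nat.cast_mul, Nat.mul_div_cancel' h3, Nat.cast_add, Nat.cast_sub (Nat.le_self_pow two_ne_zero q)]
      push_cast; ring)
    (by rw [← Nat.cast_mul, Nat.mul_div_cancel' h4, Nat.cast_sub hq2]; push_cast; ring)
  refine ⟨N, ?_, orderOf_dvd_of_pow_eq_one ?_⟩
  · rcases hN with h | h | h | h | h
    · tauto
    · rw [← Nat.mul_div_assoc _ h1] at h; tauto
    all_goals tauto
  · rw [← QuotientGroup.mk_pow]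
    refine (CfsgLib.SpectrumPowers.mk_eq_one_iff_SU hF le_rfl _).mpr ⟨c, ?_⟩
    rw [SubmonoidClass.coe_pow, Matrix.SpecialLinearGroup.coe_pow]; exact hc

/-- A generator, `η` with `η ^ (q + 1) = -1` and `c` with `c ^ q = -c`. -/
theorem exists_elements (hF : Fintype.card F = q ^ 2) (hodd : Odd q) (h2 : (2 : F) ≠ 0) :
    ∃ (l η c : F), orderOf l = q ^ 2 - 1 ∧ η ^ (q + 1) = -1 ∧ c ≠ 0 ∧ c + c ^ q = 0 := by
  classical
  obtain ⟨γ, hγ⟩ := IsCyclic.exists_ofOrder_eq_natCard (α := Fˣ)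
  have ho : orderOf (γ : F) = q ^ 2 - 1 := by
    rw [orderOf_units, hγ, Nat.card_units, Nat.card_eq_fintype_card, hF]
  obtain ⟨r, rfl⟩ := hodd
  have e : (2 * r + 1) ^ 2 - 1 = 2 * (2 * r * (r + 1)) := by
    rw [show (2 * r + 1) ^ 2 = 2 * (2 * r * (r + 1)) + 1 by ring, Nat.add_sub_cancel]
  have hpos := orderOf_pos γ
  rw [← orderOf_units, ho] at hpos
  have hn0 : 0 < 2 * r * (r + 1) := by omega
  have hhalf : (γ : F) ^ (2 * r * (r + 1)) = -1 := by
    have h1 : ((γ : F) ^ (2 * r * (r + 1))) * ((γ : F) ^ (2 * r * (r + 1))) = 1 := by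
      rw [← pow_add, ← two_mul, ← e, ← ho, pow_orderOf_eq_one]
    rcases mul_self_eq_one_iff.mp h1 with h | h
    · exact absurd h (pow_ne_one_of_lt_orderOf hn0.ne' (by rw [ho, e]; omega))
    · exact h
  refine ⟨γ, (γ : F) ^ r, (γ : F) ^ (r + 1), ho, ?_, pow_ne_zero _ γ.ne_zero, ?_⟩
  · rw [← pow_mul, ← hhalf]; congr 1; ring
  · rw [← pow_mul, show (r + 1) * (2 * r + 1) = (r + 1) + 2 * r * (r + 1) by ring, pow_add _ (r + 1),
      hhalf, mul_neg_one, add_neg_cancel]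

theorem exists_su_of_matrix {s : F →+* F} (hs : ∀ x, s x = x ^ q) (M : Matrix (Fin 3) (Fin 3) F)
    (hM : (M.map s)ᵀ * M = 1) (hdet : M.det = 1) : ∃ g : Cfsg.SU 3 F q, g.1.1 = M :=
  ⟨⟨⟨M, hdet⟩, (CfsgLib.SpectrumPowers.mem_SU_iff hs _).mpr hM⟩, rfl⟩

theorem psu_split (hF : Fintype.card F = q ^ 2) :
    ∃ g : Cfsg.PSU 3 F q, q + 1 ∣ orderOf g := by
  obtain ⟨-, s, hs⟩ := CfsgLib.UnitaryBasic.frob_exists hF
  obtain ⟨ζ, hζ⟩ := CfsgLib.UnitaryBasic.exists_zeta hF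
  have hz : (ζ : F) * (ζ : F) ^ q = 1 := by
    rw [← pow_succ', ← Units.val_pow_eq_pow_val, ← hζ, pow_orderOf_eq_one, Units.val_one]
  have hzi : (ζ : F)⁻¹ * ((ζ : F)⁻¹) ^ q = 1 := by rw [inv_pow, ← mul_inv, hz, inv_one]
  obtain ⟨g, hg⟩ := exists_su_of_matrix hs (Matrix.diagonal ![(ζ : F), 1, (ζ : F)⁻¹]) (by
    rw [Matrix.diagonal_map (map_zero s), Matrix.diagonal_transpose, Matrix.diagonal_mul_diagonal,
      ← Matrix.diagonal_one]
    congr 1
    funext i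
    fin_cases i <;> simp [hs, mul_comm, hz, ← mul_inv])
    (by rw [Matrix.det_diagonal, Fin.prod_univ_three]; simp)
  refine ⟨QuotientGroup.mk g, dvd_orderOf_psu hF hs g fun k c hc _ => ?_⟩
  rw [hg, Matrix.diagonal_pow, Matrix.scalar_apply] at hc
  have e := Matrix.diagonal_injective hc
  have e0 := congrFun e 0
  have e1 := congrFun e 1
  simp at e0 e1
  rw [← hζ, ← orderOf_units]
  exact orderOf_dvd_of_pow_eq_one (e0.trans e1.symm)

theorem psu_repeated (hF : Fintype.card F = q ^ 2) (p : ℕ) [Fact p.Prime] [CharP F p] (hodd : Odd q)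
    (h2 : (2 : F) ≠ 0) :
    ∃ g : Cfsg.PSU 3 F q, p * (q + 1) / Nat.gcd 3 (q + 1) ∣ orderOf g := by
  obtain ⟨hq, s, hs⟩ := CfsgLib.UnitaryBasic.frob_exists hF
  obtain ⟨ζ, hζ⟩ := CfsgLib.UnitaryBasic.exists_zeta hF
  obtain ⟨-, η, c, -, hη, hc0, hcq⟩ := exists_elements hF hodd h2
  have hη0 : η ≠ 0 := fun h => by
    rw [h, zero_pow (by omega)] at hη
    exact one_ne_zero (neg_eq_zero.mp hη.symm)
  have hz : (ζ : F) * (ζ : F) ^ q = 1 := by
    rw [← pow_succ', ← Units.val_pow_eq_pow_val, ← hζ, pow_orderOf_eq_one, Units.val_one]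
  have hηq : η ^ q * η = -1 := by rw [← pow_succ, hη]
  have hηqq : (η ^ q) ^ q = η := by rw [← pow_mul, ← sq, ← hF, FiniteField.pow_card]
  have hcq' : c ^ q = -c := by linear_combination hcq
  set b : F := ((ζ : F) * ζ)⁻¹ with hb
  let W : Matrix (Fin 3) (Fin 3) F := !![c, c * η ^ q, 0; c * η, -c, 0; 0, 0, 0]
  have hW : W * W = 0 := by
    ext i j
    fin_cases i <;> fin_cases j <;> simp [W, Matrix.mul_apply, Fin.sum_univ_three] <;>
      first | ring1 | linear_combination (c * c) * hηq | linear_combination (-(c * c)) * hηq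
  have hD : Commute (Matrix.diagonal ![(ζ : F), ζ, b]) W := by
    show _ = _
    ext i j
    fin_cases i <;> fin_cases j <;> simp [W, Matrix.mul_apply, Fin.sum_univ_three, Matrix.diagonal, mul_comm]
  have hM : ((Matrix.diagonal ![(ζ : F), ζ, b] * (1 + W)).map s)ᵀ *
      (Matrix.diagonal ![(ζ : F), ζ, b] * (1 + W)) = 1 := by
    have e1 : ((Matrix.diagonal ![(ζ : F), ζ, b]).map s)ᵀ * Matrix.diagonal ![(ζ : F), ζ, b] = 1 := by
      rw [Matrix.diagonal_map (map_zero s), Matrix.diagonal_transpose, Matrix.diagonal_mul_diagonal,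
        ← Matrix.diagonal_one]
      congr 1
      funext i
      have hb1 : b ^ q * b = 1 := by
        rw [hb, inv_pow, mul_pow, ← mul_inv, inv_eq_one]
        linear_combination ((ζ : F) * (ζ : F) ^ q + 1) * hz
      fin_cases i <;> simp [hs, mul_comm _ (ζ : F), hz, hb1]
    have e2 : (1 + W.map s)ᵀ * (1 + W) = 1 := by
      have hWs : (W.map s)ᵀ = -W := by
        ext i j
        fin_cases i <;> fin_cases j <;>
          simp [W, hs, mul_pow, hηqq, hcq', hodd.neg_pow, zero_pow (show q ≠ 0 by omega)]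
      rw [Matrix.transpose_add, Matrix.transpose_one, hWs, Matrix.add_mul, Matrix.one_mul, Matrix.neg_mul,
        Matrix.mul_add, Matrix.mul_one, hW, add_zero]
      abel
    rw [Matrix.map_mul, Matrix.map_add s (map_add s), Matrix.map_one _ (map_zero s) (map_one s),
      Matrix.transpose_mul, Matrix.mul_assoc, ← Matrix.mul_assoc _ (Matrix.diagonal _), e1, Matrix.one_mul, e2]
  have hdet : (Matrix.diagonal ![(ζ : F), ζ, b] * (1 + W)).det = 1 := by
    have hd1 : (Matrix.diagonal ![(ζ : F), ζ, b]).det = 1 := by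
      rw [Matrix.det_diagonal, Fin.prod_univ_three]
      show (ζ : F) * ζ * ((ζ : F) * ζ)⁻¹ = 1
      exact mul_inv_cancel₀ (mul_ne_zero ζ.ne_zero ζ.ne_zero)
    rw [Matrix.det_mul, hd1, one_mul, Matrix.det_fin_three (1 + W)]
    simp [W]
    linear_combination (-(c * c)) * hηq
  obtain ⟨g, hg⟩ := exists_su_of_matrix hs _ hM hdet
  refine ⟨QuotientGroup.mk g, dvd_orderOf_psu hF hs g fun k t hk htd => ?_⟩
  rw [hg, repeated_pow _ _ W hW hD] at hk
  have e1 := congrFun (congrFun hk 0) 1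
  have e0 := congrFun (congrFun hk 0) 0
  simp [W, Matrix.mul_apply, Fin.sum_univ_three, Matrix.diagonal, hc0, hη0] at e1
  have hk0 : (k : F) = 0 := e1
  simp [W, Matrix.mul_apply, Fin.sum_univ_three, Matrix.diagonal, hk0] at e0
  rw [Nat.mul_div_assoc _ (Nat.gcd_dvd_right _ _)]
  obtain ⟨n, hqn, hn⟩ := CfsgLib.SpectrumPowers.exists_prime_pow hF p
  refine dvd_of_repeated p (ζ : F) (Nat.gcd_pos_of_pos_left _ (by norm_num)) (Nat.gcd_dvd_right _ _) ?_
    (by rw [orderOf_units, hζ]) (fun _ => hk0) ζ.ne_zero (by rw [e0]; exact htd)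
  intro h
  have h1 : p ∣ q := hqn ▸ dvd_pow_self p (by omega)
  exact (Fact.out : p.Prime).ne_one (Nat.dvd_one.mp ((Nat.dvd_add_right h1).mp h))

theorem psu_middle (hF : Fintype.card F = q ^ 2) (hodd : Odd q) (h2 : (2 : F) ≠ 0) :
    ∃ g : Cfsg.PSU 3 F q, (q ^ 2 - 1) / Nat.gcd 3 (q + 1) ∣ orderOf g := by
  obtain ⟨hq, s, hs⟩ := CfsgLib.UnitaryBasic.frob_exists hF
  obtain ⟨l, η, -, hl, hη, -, -⟩ := exists_elements hF hodd h2
  obtain ⟨-, -, -, h4⟩ := arith_unitary q hq.le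
  have hl0 : l ≠ 0 := fun h => by
    rw [h] at hl
    have h1 : orderOf (0 : F) = 0 := by simp
    rw [h1] at hl
    have : 2 ^ 2 ≤ q ^ 2 := Nat.pow_le_pow_left hq 2
    omega
  have hη0 : η ≠ 0 := fun h => by
    rw [h, zero_pow (by omega)] at hη
    exact one_ne_zero (neg_eq_zero.mp hη.symm)
  set m : F := (l ^ q)⁻¹ with hm
  set n : F := l ^ q * l⁻¹ with hn
  have hlq0 : l ^ q ≠ 0 := pow_ne_zero _ hl0
  have hm0 : m ≠ 0 := inv_ne_zero hlq0
  have hlqq : (l ^ q) ^ q = l := by rw [← pow_mul, ← sq, ← hF, FiniteField.pow_card]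
  have hsl : s l = m⁻¹ := by rw [hs, hm, inv_inv]
  have hsm : s m = l⁻¹ := by rw [hm, map_inv₀, hs, hlqq]
  have hsn : s n * n = 1 := by
    rw [hn, map_mul, map_inv₀, hs, hs, hlqq]
    field_simp
  have hsη : s η = -η⁻¹ := by
    rw [hs, eq_neg_iff_add_eq_zero]
    have : (η ^ q + η⁻¹) * η = 0 := by rw [add_mul, ← pow_succ, hη, inv_mul_cancel₀ hη0, neg_add_cancel]
    exact (mul_eq_zero.mp this).resolve_right hη0
  have hs2 : s 2 = 2 := map_ofNat s 2
  let T : F → F → F → Matrix (Fin 3) (Fin 3) F := fun a b c =>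
    !![(a + b) / 2, (a - b) / (2 * η), 0; η * (a - b) / 2, (a + b) / 2, 0; 0, 0, c]
  have hmul : ∀ a b c a' b' c', T a b c * T a' b' c' = T (a * a') (b * b') (c * c') := by
    intros a b c a' b' c'
    ext i j
    fin_cases i <;> fin_cases j <;> simp [T, Matrix.mul_apply, Fin.sum_univ_three] <;> field_simp <;> ring
  have hpow : ∀ k : ℕ, T l m n ^ k = T (l ^ k) (m ^ k) (n ^ k) := fun k => by
    induction k with
    | zero =>
      simp only [pow_zero]
      ext i j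
      fin_cases i <;> fin_cases j <;> simp [T, Matrix.one_apply] <;> field_simp <;> ring
    | succ k ih => rw [pow_succ, ih, hmul, pow_succ, pow_succ, pow_succ]
  obtain ⟨g, hg⟩ := exists_su_of_matrix hs (T l m n) (by
    ext i j
    fin_cases i <;> fin_cases j <;>
      simp [T, Matrix.mul_apply, Fin.sum_univ_three, Matrix.one_apply, hsl, hsm, hsη, hs2, hsn] <;>
      field_simp <;> ring)
    (by
      rw [Matrix.det_fin_three]
      simp [T, hn, hm]
      field_simp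
      ring)
  refine ⟨QuotientGroup.mk g, dvd_orderOf_psu hF hs g fun k c hk hcd => ?_⟩
  rw [hg, hpow] at hk
  have e0 := congrFun (congrFun hk 0) 0
  have e1 := congrFun (congrFun hk 0) 1
  simp [T, h2, hη0, sub_eq_zero] at e0 e1
  have hlk : l ^ k = c := by
    rw [← e1, ← mul_two] at e0
    rw [← e0]
    field_simp
  refine dvd_of_pow_mul_eq_one (x := l) (d := Nat.gcd 3 (q + 1)) (Nat.gcd_pos_of_pos_left _ (by norm_num))
    (by rw [hl, Nat.mul_div_cancel' h4]) ?_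
  rw [pow_mul, hlk, hcd]

theorem psu_singer (hF : Fintype.card F = q ^ 2) (p : ℕ) [Fact p.Prime] [CharP F p] :
    ∃ g : Cfsg.PSU 3 F q, (q ^ 2 - q + 1) / Nat.gcd 3 (q + 1) ∣ orderOf g := by
  obtain ⟨hq, s, hs⟩ := CfsgLib.UnitaryBasic.frob_exists hF
  obtain ⟨t, ht⟩ := CfsgLib.SpectrumPowers.exists_uSinger (n := 3) hF p hs le_rfl
  refine ⟨t, ?_⟩
  have e : (CfsgLib.SpectrumPowers.alt q 3).natAbs = q ^ 2 - q + 1 := by
    have h1 : CfsgLib.SpectrumPowers.alt q 3 = ((q ^ 2 - q + 1 : ℕ) : ℤ) := by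
      rw [CfsgLib.SpectrumPowers.alt, Finset.sum_range_succ, Finset.sum_range_succ, Finset.sum_range_one,
        Nat.cast_add, Nat.cast_sub (Nat.le_self_pow two_ne_zero q)]
      push_cast; ring
    rw [h1]; rfl
  have hgcd : Nat.gcd (q ^ 2 - q + 1) (q + 1) = Nat.gcd 3 (q + 1) := by
    obtain ⟨-, -, h3, -⟩ := arith_unitary q hq.le
    refine Nat.dvd_antisymm (Nat.dvd_gcd ?_ (Nat.gcd_dvd_right _ _)) (Nat.dvd_gcd h3 (Nat.gcd_dvd_right _ _))
    set g := Nat.gcd (q ^ 2 - q + 1) (q + 1)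
    have h1 : (g : ℤ) ∣ ((q ^ 2 - q + 1 : ℕ) : ℤ) := Int.natCast_dvd_natCast.mpr (Nat.gcd_dvd_left _ _)
    have h2 : (g : ℤ) ∣ ((q + 1 : ℕ) : ℤ) := Int.natCast_dvd_natCast.mpr (Nat.gcd_dvd_right _ _)
    rw [Nat.cast_add, Nat.cast_sub (Nat.le_self_pow two_ne_zero q)] at h1
    push_cast at h1 h2
    have := dvd_sub h1 (h2.mul_right ((q : ℤ) - 2))
    rw [show (q : ℤ) ^ 2 - q + 1 - ((q : ℤ) + 1) * (q - 2) = 3 by ring] at this
    exact_mod_cast this
  rw [CfsgLib.SpectrumPowers.uSinger, e, hgcd] at ht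
  exact ht

/-- The spectrum of `PSU₃(q)`, odd `q`. -/
theorem psu_spectrum (hF : Fintype.card F = q ^ 2) (p : ℕ) [Fact p.Prime] [CharP F p] (hp : p ≠ 2) :
    Set.range (orderOf : Cfsg.PSU 3 F q → ℕ) = {s : ℕ | s ∣ q + 1} ∪ {s : ℕ | s ∣ p * (q + 1) / Nat.gcd 3 (q + 1)} ∪
      {s : ℕ | s ∣ (q ^ 2 - 1) / Nat.gcd 3 (q + 1)} ∪ {s : ℕ | s ∣ (q ^ 2 - q + 1) / Nat.gcd 3 (q + 1)} := by
  obtain ⟨a, hqa, -⟩ := CfsgLib.SpectrumPowers.exists_prime_pow hF p
  have hodd : Odd q := hqa ▸ ((Fact.out : p.Prime).odd_of_ne_two hp).pow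
  have h2 : (2 : F) ≠ 0 := fun h => hp <| by
    have h' : ((2 : ℕ) : F) = 0 := by exact_mod_cast h
    exact ((Nat.prime_dvd_prime_iff_eq Fact.out Nat.prime_two).mp ((CharP.cast_eq_zero_iff F p 2).mp h'))
  ext m
  simp only [Set.mem_union, Set.mem_setOf_eq]
  constructor
  · rintro ⟨x, rfl⟩
    obtain ⟨N, hN, hdvd⟩ := psu_bound hF p hp x
    rcases hN with rfl | rfl | rfl | rfl <;> tauto
  · rintro (((h | h) | h) | h)
    · exact mem_range_orderOf (psu_split hF) h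
    · exact mem_range_orderOf (psu_repeated hF p hodd h2) h
    · exact mem_range_orderOf (psu_middle hF hodd h2) h
    · exact mem_range_orderOf (psu_singer hF p) h

end CfsgLib.SpectrumThree
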